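import Mathlib
import Cfsg.Agent.Solvable.Frattini

/-!
# A `p`-group of odd order has a set with small setwise stabiliser
-/

set_option autoImplicit false

namespace CfsgLib.ClassSubnormal

open MulAction

variable {P : Type*} [Group P] [Finite P] {α : Type*} [MulAction P α] [DecidableEq α]
  {p : ℕ} [hp : Fact p.Prime]

theorem exists_subset_aux (hP : IsPGroup p P) (hp2 : p ≠ 2) (n : ℕ) :
    ∀ (Q : Subgroup P), Nat.card Q ≤ n → ∀ S : Finset α, (∀ g ∈ Q, ∀ x ∈ S, g • x ∈ S) →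
      ∃ Δ : Finset α, ∀ g ∈ Q, (∀ x ∈ S, g • x ∈ Δ ↔ x ∈ Δ) → ∀ x ∈ S, g • x = x := by
  induction n with
  | zero => intro Q hQ; exact absurd (Nat.card_pos (α := Q)) (by omega)
  | succ n ih =>
    intro Q hQn S hS
    classical
    let orb : α → Finset α := fun x => S.filter fun y => y ∈ orbit Q x
    have horb : ∀ x, ∀ y, y ∈ orb x ↔ y ∈ S ∧ y ∈ orbit Q x := fun x y => by simp [orb]
    -- it suffices to treat one orbit
    suffices h : ∀ x ∈ S, ∃ Δ : Finset α, ∀ g ∈ Q, (∀ y ∈ orb x, g • y ∈ Δ ↔ y ∈ Δ) →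
        ∀ y ∈ orb x, g • y = y by
      choose f hf using h
      let O : Finset (Finset α) := S.image orb
      have hO : ∀ A ∈ O, ∃ x, ∃ _ : x ∈ S, orb x = A := fun A hA => by
        obtain ⟨x, hx, rfl⟩ := Finset.mem_image.mp hA; exact ⟨x, hx, rfl⟩
      choose rep hrep hrepA using hO
      refine ⟨S.filter fun y => ∀ A, ∀ hA : A ∈ O, y ∈ A → y ∈ f (rep A hA) (hrep A hA), ?_⟩
      intro g hg hst x hx
      have hA : orb x ∈ O := Finset.mem_image_of_mem _ hx
      have hxA : x ∈ orb x := (horb x x).mpr ⟨hx, mem_orbit_self x⟩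
      have huniq : ∀ A ∈ O, ∀ y ∈ A, A = orb y := by
        intro A hA y hy
        obtain ⟨z, -, rfl⟩ := Finset.mem_image.mp hA
        ext w
        rw [horb, horb, orbit_eq_iff.mpr ((horb z y).mp hy).2]
      refine hf (rep _ hA) (hrep _ hA) g hg (fun y hy => ?_) x (by rw [hrepA]; exact hxA)
      rw [hrepA] at hy
      obtain ⟨hyS, hyo⟩ := (horb x y).mp hy
      have hgy : g • y ∈ orb x :=
        (horb x _).mpr ⟨hS g hg y hyS, mem_orbit_of_mem_orbit (⟨g, hg⟩ : Q) hyo⟩
      have key : ∀ z, z ∈ orb x →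
          ((∀ A, ∀ hA : A ∈ O, z ∈ A → z ∈ f (rep A hA) (hrep A hA)) ↔
            z ∈ f (rep _ hA) (hrep _ hA)) := by
        intro z hz
        refine ⟨fun h => h _ hA hz, fun h A hA' hzA => ?_⟩
        have : A = orb x := (huniq A hA' z hzA).trans (huniq _ hA z hz).symm
        subst this
        exact h
      have := hst y hyS
      simp only [Finset.mem_filter, hS g hg y hyS, hyS, true_and] at this
      rwa [key _ hgy, key _ hy] at this
    intro x₀ hx₀
    set Γ := orb x₀ with hΓ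
    have hΓS : ∀ y ∈ Γ, y ∈ S := fun y hy => ((horb x₀ y).mp hy).1
    have hΓmem : ∀ y, y ∈ Γ ↔ y ∈ orbit Q x₀ := by
      intro y
      refine ⟨fun h => ((horb x₀ y).mp h).2, fun h => (horb x₀ y).mpr ⟨?_, h⟩⟩
      obtain ⟨g, rfl⟩ := h
      exact hS g g.2 x₀ hx₀
    by_cases htop : stabilizer Q x₀ = ⊤
    · refine ⟨∅, fun g hg _ y hy => ?_⟩
      obtain ⟨h, rfl⟩ := (hΓmem y).mp hy
      have h1 : h • x₀ = x₀ := by
        have : h ∈ stabilizer Q x₀ := by rw [htop]; exact Subgroup.mem_top h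
        exact this
      change g • (h • x₀) = h • x₀
      rw [h1]
      have : (⟨g, hg⟩ : Q) ∈ stabilizer Q x₀ := by rw [htop]; exact Subgroup.mem_top _
      exact this
    obtain ⟨M, hMc, hle⟩ := (eq_top_or_exists_le_coatom (stabilizer Q x₀)).resolve_left htop
    have hQp : IsPGroup p Q := hP.to_subgroup Q
    have hMn : M.Normal := CfsgLib.Solvable.normal_of_coatom hQp hMc
    set M' : Subgroup P := M.map Q.subtype with hM'
    have hM'Q : M' ≤ Q := Subgroup.map_subtype_le _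
    have hlt : Nat.card M' < Nat.card Q := by
      rw [hM', Subgroup.card_map_of_injective Q.subtype_injective]
      refine lt_of_le_of_ne (Subgroup.card_le_card_group M) fun h => hMc.1 ?_
      exact Subgroup.eq_top_of_card_eq M h
    have hΓinv : ∀ g ∈ Q, ∀ y ∈ Γ, g • y ∈ Γ := fun g hg y hy =>
      (hΓmem _).mpr (mem_orbit_of_mem_orbit (⟨g, hg⟩ : Q) ((hΓmem y).mp hy))
    obtain ⟨Δ₀, hΔ₀⟩ := ih M' (by omega) Γ fun g hg => hΓinv g (hM'Q hg)
    let B : α → Finset α := fun y => Γ.filter fun z => z ∈ orbit M y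
    have hB : ∀ y z, z ∈ B y ↔ z ∈ Γ ∧ z ∈ orbit M y := fun y z => by simp [B]
    have hBorb : ∀ y ∈ Γ, ∀ z, z ∈ B y ↔ z ∈ orbit M y := by
      intro y hy z
      refine ⟨fun h => ((hB y z).mp h).2, fun h => (hB y z).mpr ⟨?_, h⟩⟩
      obtain ⟨m, rfl⟩ := h
      exact hΓinv _ (m : Q).2 y hy
    have hBeq : ∀ y ∈ Γ, ∀ z ∈ B y, B z = B y := by
      intro y _ z hz
      ext w
      rw [hB, hB, orbit_eq_iff.mpr ((hB y z).mp hz).2]
    have hodd : ∀ y ∈ Γ, Odd (B y).card := by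
      intro y hy
      have e : (B y).card = Nat.card (orbit M y) := by
        rw [Nat.card_coe_set_eq, ← Set.ncard_coe_finset]
        congr 1
        ext z
        exact hBorb y hy z
      rw [e]
      haveI : Finite (orbit M y) := Finite.of_surjective (fun m : M => (⟨m • y, mem_orbit y m⟩ : orbit M y))
        (fun ⟨z, m, hm⟩ => ⟨m, Subtype.ext hm⟩)
      obtain ⟨k, hk⟩ := (hQp.to_subgroup M).card_orbit y
      rw [hk]
      exact (hp.out.odd_of_ne_two hp2).pow
    -- the blocks with their majority in `Δ₀`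
    let big : Finset α → Prop := fun A => A.card < 2 * (A.filter fun z => z ∈ Δ₀).card
    let Δ : Finset α := Γ.filter fun y => if (big (B y) ↔ B y = B x₀) then y ∈ Δ₀ else y ∉ Δ₀
    have hx₀Γ : x₀ ∈ Γ := (hΓmem x₀).mpr (mem_orbit_self x₀)
    have hmaj : ∀ y ∈ Γ, (2 * ((B y).filter fun z => z ∈ Δ).card > (B y).card ↔ B y = B x₀) := by
      intro y hy
      have e : ((B y).filter fun z => z ∈ Δ) = if (big (B y) ↔ B y = B x₀) then
          ((B y).filter fun z => z ∈ Δ₀) else ((B y).filter fun z => z ∉ Δ₀) := by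
        split_ifs with h <;> ext z <;> simp only [Finset.mem_filter, Δ] <;> constructor
        · rintro ⟨hz, -, hz'⟩; rw [hBeq y hy z hz, if_pos h] at hz'; exact ⟨hz, hz'⟩
        · rintro ⟨hz, hz'⟩; exact ⟨hz, ((hB y z).mp hz).1, by rw [hBeq y hy z hz, if_pos h]; exact hz'⟩
        · rintro ⟨hz, -, hz'⟩; rw [hBeq y hy z hz, if_neg h] at hz'; exact ⟨hz, hz'⟩
        · rintro ⟨hz, hz'⟩; exact ⟨hz, ((hB y z).mp hz).1, by rw [hBeq y hy z hz, if_neg h]; exact hz'⟩
      have hsplit := Finset.card_filter_add_card_filter_not (s := B y) (fun z => z ∈ Δ₀)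
      obtain ⟨k, hk⟩ := hodd y hy
      rw [e]
      split_ifs with h
      · exact h
      · by_cases hb : big (B y)
        · have hne : ¬ B y = B x₀ := fun e => h ⟨fun _ => e, fun _ => hb⟩
          refine iff_of_false ?_ hne
          simp only [big] at hb
          omega
        · have heq : B y = B x₀ := by_contra fun e => h ⟨fun h' => absurd h' hb, fun h' => absurd h' e⟩
          refine iff_of_true ?_ heq
          simp only [big] at hb
          omega
    refine ⟨Δ, fun g hg hst => ?_⟩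
    -- `g` permutes the blocks
    have hgB : ∀ y ∈ Γ, ∀ z, z ∈ B y → g • z ∈ B (g • y) := by
      intro y hy z hz
      rw [hBorb _ (hΓinv g hg y hy)]
      obtain ⟨m, rfl⟩ := (hBorb y hy z).mp hz
      refine ⟨⟨(⟨g, hg⟩ : Q) * m * (⟨g, hg⟩ : Q)⁻¹, hMn.conj_mem m m.2 _⟩, ?_⟩
      change (g * (m : Q) * g⁻¹ : P) • g • y = g • ((m : Q) : P) • y
      rw [← mul_smul, ← mul_smul]
      simp
    have hinvg : ∀ y ∈ Γ, g⁻¹ • y ∈ Γ := fun y hy => hΓinv _ (inv_mem hg) y hy
    have hcnt : ∀ y ∈ Γ, ((B (g • y)).filter fun z => z ∈ Δ).card = ((B y).filter fun z => z ∈ Δ).card ∧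
        (B (g • y)).card = (B y).card := by
      intro y hy
      have hback : ∀ z ∈ B (g • y), g⁻¹ • z ∈ B y := by
        intro z hz
        rw [hBorb y hy]
        obtain ⟨m, rfl⟩ := (hBorb _ (hΓinv g hg y hy) z).mp hz
        refine ⟨⟨(⟨g, hg⟩ : Q)⁻¹ * m * (⟨g, hg⟩ : Q)⁻¹⁻¹, hMn.conj_mem m m.2 _⟩, ?_⟩
        change (g⁻¹ * (m : Q) * g⁻¹⁻¹ : P) • y = g⁻¹ • ((m : Q) : P) • g • y
        rw [← mul_smul, ← mul_smul]
        simp [mul_assoc]
      constructor
      · refine (Finset.card_bij' (fun z _ => g • z) (fun z _ => g⁻¹ • z) ?_ ?_ ?_ ?_).symm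
        · intro z hz
          obtain ⟨h1, h2⟩ := Finset.mem_filter.mp hz
          exact Finset.mem_filter.mpr ⟨hgB y hy z h1, (hst z ((hB y z).mp h1).1).mpr h2⟩
        · intro z hz
          obtain ⟨h1, h2⟩ := Finset.mem_filter.mp hz
          refine Finset.mem_filter.mpr ⟨hback z h1, ?_⟩
          rw [← hst _ ((hB y _).mp (hback z h1)).1, smul_inv_smul]
          exact h2
        · intro z _; exact inv_smul_smul g z
        · intro z _; exact smul_inv_smul g z
      · refine (Finset.card_bij' (fun z _ => g • z) (fun z _ => g⁻¹ • z) (hgB y hy) hback ?_ ?_).symm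
        · intro z _; exact inv_smul_smul g z
        · intro z _; exact smul_inv_smul g z
    have hfix : B (g • x₀) = B x₀ := by
      rw [← hmaj _ (hΓinv g hg _ hx₀Γ), (hcnt x₀ hx₀Γ).1, (hcnt x₀ hx₀Γ).2, hmaj _ hx₀Γ]
    have hgM : (⟨g, hg⟩ : Q) ∈ M := by
      have h1 : g • x₀ ∈ B x₀ := hfix ▸ (hBorb _ (hΓinv g hg _ hx₀Γ) _).mpr (mem_orbit_self _)
      obtain ⟨m, hm⟩ := (hBorb _ hx₀Γ _).mp h1
      have h2 : (m : Q)⁻¹ * ⟨g, hg⟩ ∈ stabilizer Q x₀ := by
        rw [mem_stabilizer_iff, mul_smul, inv_smul_eq_iff]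
        exact hm.symm
      have := M.mul_mem m.2 (hle h2)
      simpa using this
    intro y hy
    refine hΔ₀ g ⟨⟨g, hg⟩, hgM, rfl⟩ (fun z hz => ?_) y hy
    have hgz : g • z ∈ B z := (hBorb z hz _).mpr ⟨⟨⟨g, hg⟩, hgM⟩, rfl⟩
    have hBgz : B (g • z) = B z := hBeq z hz _ hgz
    have := hst z hz
    simp only [Δ, Finset.mem_filter, hΓinv g hg z hz, hz, true_and, hBgz] at this
    split_ifs at this with h
    · exact this
    · exact not_iff_not.mp this

/-- A finite `p`-group with `p` odd acting on a finite set has a subset whose setwise stabiliser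
fixes every point. -/
theorem exists_subset [Fintype α] (hP : IsPGroup p P) (hp2 : p ≠ 2) :
    ∃ Δ : Finset α, ∀ g : P, (∀ x, g • x ∈ Δ ↔ x ∈ Δ) → ∀ x : α, g • x = x := by
  obtain ⟨Δ, h⟩ := exists_subset_aux (α := α) hP hp2 _ ⊤ le_rfl Finset.univ (by simp)
  exact ⟨Δ, fun g hg x => h g (Subgroup.mem_top g) (fun y _ => hg y) x (Finset.mem_univ x)⟩

end CfsgLib.ClassSubnormal
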