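import Cfsg.Agent.ClassSubnormal.Symplectic
import Cfsg.Agent.ClassSubnormal.Subset

/-!
# A vector moved by a whole class of a normal `p`-element
-/

set_option autoImplicit false
set_option linter.unusedSectionVars false

namespace CfsgLib.ClassSubnormal

open Pointwise

universe u v

variable {F : Type v} [Field F]

/-- A unipotent element of order `p` is trivial in coprime characteristic. -/
theorem eq_one_of_unipotent {H : Type u} [Group H] {V : Type*} [AddCommGroup V] [Module F V]
    (ρ : Representation F H V) {p : ℕ} (hpF : (p : F) ≠ 0) {a : H} (hap : a ^ p = 1) {x : V}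
    (h : ρ a (ρ a x - x) = ρ a x - x) : ρ a x = x := by
  have hn : ∀ n : ℕ, ρ (a ^ n) x = x + (n : F) • (ρ a x - x) := by
    intro n
    induction n with
    | zero => simp
    | succ n ih =>
      rw [pow_succ', rep_mul, ih, map_add, map_smul, h, Nat.cast_succ, add_smul, one_smul]
      abel
  have := hn p
  rw [hap, map_one, Module.End.one_apply, left_eq_add, smul_eq_zero] at this
  exact sub_eq_zero.mp (this.resolve_left hpF)

/-- Some vector is moved by every conjugate of a nontrivial element of order `p` lying in a normal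
`p`-subgroup, in coprime characteristic. -/
theorem exists_moved (p : ℕ) [hp : Fact p.Prime] (hp2 : p ≠ 2) (hpF : (p : F) ≠ 0) :
    ∀ (n : ℕ) {H : Type u} [Group H] [Finite H] {V : Type u} [AddCommGroup V] [Module F V]
      [FiniteDimensional F V] (ρ : Representation F H V) (P : Subgroup H),
      P.Normal → IsPGroup p P → ∀ a ∈ P, a ^ p = 1 → ρ a ≠ 1 → Module.finrank F V ≤ n →
      ∃ v : V, ∀ h : H, ρ (h * a * h⁻¹) v ≠ v := by
  intro n
  induction n with
  | zero =>
    intro H _ _ V _ _ _ ρ P _ _ a _ _ ha hn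
    have : Subsingleton V := Module.finrank_zero_iff.mp (Nat.le_zero.mp hn)
    exact absurd (LinearMap.ext fun v => Subsingleton.elim _ _) ha
  | succ n ih =>
    intro H _ _ V _ _ _ ρ P hPn hP a haP hap ha hn
    classical
    by_cases hred : ∃ W : Submodule F V, (∀ g, ∀ w ∈ W, ρ g w ∈ W) ∧ W ≠ ⊥ ∧ W ≠ ⊤
    · obtain ⟨W, hW, hWb, hWt⟩ := hred
      have hlt := Submodule.finrank_lt hWt
      have hq : Module.finrank F (V ⧸ W) < Module.finrank F V := by
        have h1 := W.finrank_quotient_add_finrank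
        have h2 : 0 < Module.finrank F W := by
          rw [Nat.pos_iff_ne_zero, Ne, Submodule.finrank_eq_zero]
          exact hWb
        omega
      let σ : Representation F H W :=
        { toFun := fun g => (ρ g).restrict (hW g)
          map_one' := by ext w; simp
          map_mul' := fun g h => by ext w; simp }
      let τ : Representation F H (V ⧸ W) :=
        { toFun := fun g => W.mapQ W (ρ g) (hW g)
          map_one' := by
            refine Submodule.linearMap_qext _ (LinearMap.ext fun v => ?_)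
            simp
          map_mul' := fun g h => by
            refine Submodule.linearMap_qext _ (LinearMap.ext fun v => ?_)
            simp }
      by_cases hσ : σ a = 1
      · by_cases hτ : τ a = 1
        · refine absurd (LinearMap.ext fun x => ?_) ha
          refine eq_one_of_unipotent ρ hpF hap ?_
          have hmem : ρ a x - x ∈ W := by
            rw [← Submodule.Quotient.eq]
            exact LinearMap.congr_fun hτ (Submodule.Quotient.mk x)
          exact congrArg Subtype.val (LinearMap.congr_fun hσ ⟨_, hmem⟩)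
        · obtain ⟨v, hv⟩ := ih τ P hPn hP a haP hap hτ (by omega)
          obtain ⟨v', rfl⟩ := Submodule.Quotient.mk_surjective W v
          exact ⟨v', fun h e => hv h (by
            show W.mapQ W (ρ (h * a * h⁻¹)) (hW _) (Submodule.Quotient.mk v') = _
            rw [Submodule.mapQ_apply, e])⟩
      · obtain ⟨v, hv⟩ := ih σ P hPn hP a haP hap hσ (by omega)
        exact ⟨v.1, fun h e => hv h (Subtype.ext e)⟩
    have hirr0 : ∀ W : Submodule F V, (∀ g, ∀ w ∈ W, ρ g w ∈ W) → W = ⊥ ∨ W = ⊤ := fun W hW =>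
      or_iff_not_imp_left.mpr fun h => by_contra fun h' => hred ⟨W, hW, h, h'⟩
    -- pass to the image
    suffices hfaith : ∀ (H' : Type u) [Group H'] [Finite H'] (ρ : Representation F H' V) (P : Subgroup H'),
        Function.Injective ρ → (∀ W : Submodule F V, (∀ g, ∀ w ∈ W, ρ g w ∈ W) → W = ⊥ ∨ W = ⊤) →
        P.Normal → IsPGroup p P → ∀ a ∈ P, a ^ p = 1 → a ≠ 1 →
        ∃ v : V, ∀ h : H', ρ (h * a * h⁻¹) v ≠ v by
      set f := ρ.toHomUnits
      have : Finite f.range := Finite.of_surjective f.rangeRestrict f.rangeRestrict_surjective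
      let ρ' : Representation F f.range V := (Units.coeHom _).comp f.range.subtype
      have hρ' : Function.Injective ρ' := Units.val_injective.comp Subtype.val_injective
      have hval : ∀ g, ρ' (f.rangeRestrict g) = ρ g := fun g => rfl
      obtain ⟨v, hv⟩ := hfaith f.range ρ' (P.map f.rangeRestrict) hρ'
        (fun W hW => hirr0 W fun g w hw => by rw [← hval]; exact hW _ w hw)
        (hPn.map _ f.rangeRestrict_surjective) (hP.map _) (f.rangeRestrict a) ⟨a, haP, rfl⟩
        (by rw [← map_pow, hap, map_one]) (fun h => ha (by rw [← hval, h, map_one]))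
      refine ⟨v, fun h e => hv (f.rangeRestrict h) ?_⟩
      rwa [← map_inv, ← map_mul, ← map_mul, hval]
    intro H _ _ ρ P hinj hirr hPn hP a haP hap ha
    have hV : Nontrivial V := by
      by_contra h
      rw [not_nontrivial_iff_subsingleton] at h
      exact ha (hinj (LinearMap.ext fun v => Subsingleton.elim _ _))
    by_cases hE : ∃ E : Subgroup H, E.Normal ∧ E ≤ P ∧ (∀ x ∈ E, x ^ p = 1) ∧
        (∀ x ∈ E, ∀ y ∈ E, x * y = y * x) ∧ p < Nat.card E
    swap
    · exact exists_moved_of_no_abelian ρ hp2 hpF hinj hirr P hP haP hap ha fun E h1 h2 h3 h4 =>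
        not_lt.mp fun h => hE ⟨E, h1, h2, h3, h4, h⟩
    obtain ⟨E, hEn, hEP, hEp, hEc, hEcard⟩ := hE
    have hconj : ∀ (g x : H), g * x * g⁻¹ ∈ E ↔ x ∈ E := fun g x =>
      ⟨fun h => by simpa [mul_assoc] using hEn.conj_mem _ h g⁻¹, fun h => hEn.conj_mem x h g⟩
    have hne : ∀ K, IsWeight ρ E K → K ≠ ⊥ := by
      intro K hK hbot
      subst hbot
      obtain ⟨w, hw, hw0⟩ := hK.2.1
      obtain ⟨y, hy, hy1⟩ := CfsgLib.BlocksCharsC.exists_mem_ne_one (H := E) fun h => by
        rw [h, Subgroup.card_bot] at hEcard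
        have := hp.out.two_le
        omega
      obtain ⟨x, hx, hxy⟩ : ∃ x ∈ E, x ∉ Subgroup.zpowers y := by
        by_contra! h
        have := Subgroup.card_le_of_le (show E ≤ Subgroup.zpowers y from h)
        rw [Nat.card_zpowers, orderOf_eq_prime (hEp y hy) hy1] at this
        omega
      refine false_of_fpf_pair ρ hpF hw hw0 (hEc x hx y hy)
        (fun k hk => by rw [Subgroup.mem_bot.mp hk, mul_one, one_mul])
        (fun k hk => by rw [Subgroup.mem_bot.mp hk, mul_one, one_mul])
        (hEp x hx) (hEp y hy) hy1 hxy fun e he he1 u hu heu => ?_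
      by_contra hu0
      refine he1 (Subgroup.mem_bot.mp (hK.2.2 u hu hu0 e ((Subgroup.closure_le _).mpr ?_ he) heu))
      rintro _ (rfl | rfl)
      exacts [hx, hy]
    let Ω := {K : Subgroup H // IsWeight ρ E K}
    let _ : Fintype Ω := Fintype.ofFinite Ω
    let _ : MulAction H Ω :=
      { smul := fun g K => ⟨MulAut.conj g • K.1, K.2.conj g (hconj g)⟩
        one_smul := fun K => Subtype.ext (by
          change MulAut.conj 1 • K.1 = K.1
          rw [map_one, one_smul])
        mul_smul := fun g h K => Subtype.ext (by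
          change MulAut.conj (g * h) • K.1 = MulAut.conj g • MulAut.conj h • K.1
          rw [map_mul, mul_smul]) }
    have hsm : ∀ (g : H) (K : Ω), (g • K).1 = MulAut.conj g • K.1 := fun _ _ => rfl
    have hspan : (⨆ K : Ω, fixSp ρ K.1) = ⊤ := by
      refine (hirr _ fun g w hw => ?_).resolve_left fun h => ?_
      · refine Submodule.iSup_induction _ (motive := fun z => ρ g z ∈ ⨆ K : Ω, fixSp ρ K.1) hw
          (fun K z hz => Submodule.mem_iSup_of_mem (g • K) (map_fixSp_le ρ g hz)) ?_ ?_
        · rw [map_zero]; exact zero_mem _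
        · intro x y hx hy; rw [map_add]; exact add_mem hx hy
      · obtain ⟨K, hK⟩ := exists_isWeight ρ E
        obtain ⟨w, hw, hw0⟩ := hK.2.1
        refine hw0 ((Submodule.mem_bot F).mp ?_)
        rw [← h]
        exact Submodule.mem_iSup_of_mem (⟨K, hK⟩ : Ω) hw
    choose wt hwt hwt0 using fun K : Ω => K.2.2.1
    by_cases hmove : ∃ K : Ω, a • K ≠ K
    · obtain ⟨K₁, hK₁⟩ := hmove
      obtain ⟨Δ, hΔ⟩ := exists_subset (α := Ω) hP hp2
      let w : Subgroup H → V := fun K => if h : IsWeight ρ E K then wt ⟨K, h⟩ else 0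
      set S : Finset (Subgroup H) := Δ.map (Function.Embedding.subtype _) with hS
      have hSw : ∀ K ∈ S, IsWeight ρ E K := by
        intro K hK
        obtain ⟨L, -, rfl⟩ := Finset.mem_map.mp hK
        exact L.2
      have hw : ∀ K ∈ S, w K ∈ fixSp ρ K ∧ w K ≠ 0 := fun K hK => by
        simp only [w, dif_pos (hSw K hK)]
        exact ⟨hwt ⟨K, hSw K hK⟩, hwt0 _⟩
      refine ⟨∑ K ∈ S, w K, fun h hfix => hK₁ ?_⟩
      have hbP : h * a * h⁻¹ ∈ P := hPn.conj_mem a haP h
      have hperm := perm_of_fixed ρ hp.out hpF (hP.to_le hEP) hEc S w hSw hw (hconj _) hfix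
      have hsub : ∀ L ∈ Δ, (h * a * h⁻¹) • L ∈ Δ := by
        intro L hL
        obtain ⟨L', hL', he⟩ := Finset.mem_map.mp (hperm L.1 (Finset.mem_map.mpr ⟨L, hL, rfl⟩)).1
        rwa [show (h * a * h⁻¹) • L = L' from Subtype.ext he.symm]
      have hstab : ∀ L : Ω, (h * a * h⁻¹) • L ∈ Δ ↔ L ∈ Δ := by
        intro L
        refine ⟨fun hL => ?_, hsub L⟩
        have himg : Δ.image (fun M => (h * a * h⁻¹) • M) = Δ := Finset.eq_of_subset_of_card_le
          (fun M hM => by obtain ⟨N, hN, rfl⟩ := Finset.mem_image.mp hM; exact hsub N hN)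
          (by rw [Finset.card_image_of_injective _ fun M N e => smul_left_cancel _ e])
        rw [← himg] at hL
        obtain ⟨M, hM, hMe⟩ := Finset.mem_image.mp hL
        rwa [← smul_left_cancel _ hMe]
      have := hΔ ⟨_, hbP⟩ hstab (h • K₁)
      change (h * a * h⁻¹) • h • K₁ = h • K₁ at this
      rwa [← mul_smul, inv_mul_cancel_right, mul_smul, smul_left_cancel_iff] at this
    push Not at hmove
    obtain ⟨K₀, hK₀⟩ : ∃ K₀ : Ω, ∃ w ∈ fixSp ρ K₀.1, ρ a w ≠ w := by
      by_contra! hall
      refine ha (hinj ?_)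
      rw [map_one]
      refine LinearMap.ext fun v => ?_
      have hv : v ∈ ⨆ K : Ω, fixSp ρ K.1 := by rw [hspan]; exact Submodule.mem_top
      refine Submodule.iSup_induction _ (motive := fun z => ρ a z = (1 : Module.End F V) z) hv
        (fun K z hz => hall K z hz) (map_zero _) ?_
      intro x y hx hy
      rw [map_add, hx, hy]
      rfl
    set H₀ := MulAction.stabilizer H K₀ with hH₀
    have hinv₀ : ∀ g : H₀, ∀ w ∈ fixSp ρ K₀.1, ρ g w ∈ fixSp ρ K₀.1 := fun g w hw => by
      have := map_fixSp_le ρ (g : H) hw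
      rwa [← hsm, show (g : H) • K₀ = K₀ from g.2] at this
    let σ : Representation F H₀ (fixSp ρ K₀.1) :=
      { toFun := fun g => (ρ g).restrict (hinv₀ g)
        map_one' := by ext w; simp
        map_mul' := fun g h => by ext w; simp }
    have haH : a ∈ H₀ := hmove K₀
    have hlt : Module.finrank F (fixSp ρ K₀.1) < Module.finrank F V := by
      refine Submodule.finrank_lt fun htop => hne _ K₀.2 ?_
      rw [eq_bot_iff]
      intro k hk
      rw [Subgroup.mem_bot]
      refine hinj (LinearMap.ext fun v => ?_)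
      rw [map_one]
      exact (show v ∈ fixSp ρ K₀.1 by rw [htop]; exact Submodule.mem_top) k hk
    obtain ⟨w, hw⟩ := ih σ (P.subgroupOf H₀) inferInstance (hP.comap_subtype (K := H₀)) ⟨a, haH⟩
      haP (Subtype.ext hap)
      (fun e => by
        obtain ⟨u, hu, hu'⟩ := hK₀
        exact hu' (congrArg Subtype.val (LinearMap.congr_fun e ⟨u, hu⟩)))
      (by omega)
    have hw0 : (w : V) ≠ 0 := fun e => hw 1 (by rw [show w = 0 from Subtype.ext e, map_zero])
    have hrep : ∀ K : Subgroup H, ∃ g : H, (∃ hK : IsWeight ρ E K,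
        (⟨K, hK⟩ : Ω) ∈ MulAction.orbit H K₀) → MulAut.conj g • K₀.1 = K := by
      intro K
      by_cases hK : ∃ hK : IsWeight ρ E K, (⟨K, hK⟩ : Ω) ∈ MulAction.orbit H K₀
      · obtain ⟨hK, g, hg⟩ := hK
        exact ⟨g, fun _ => congrArg Subtype.val hg⟩
      · exact ⟨1, fun h => absurd h hK⟩
    choose r hr using hrep
    set S : Finset (Subgroup H) :=
      (MulAction.orbit H K₀).toFinite.toFinset.map (Function.Embedding.subtype _) with hS
    have hSw : ∀ K ∈ S, IsWeight ρ E K := by
      intro K hK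
      obtain ⟨L, -, rfl⟩ := Finset.mem_map.mp hK
      exact L.2
    have hSr : ∀ K ∈ S, MulAut.conj (r K) • K₀.1 = K := by
      intro K hK
      obtain ⟨L, hL, rfl⟩ := Finset.mem_map.mp hK
      exact hr _ ⟨L.2, (Set.Finite.mem_toFinset _).mp hL⟩
    let wv : Subgroup H → V := fun K => ρ (r K) (w : V)
    have hwv : ∀ K ∈ S, wv K ∈ fixSp ρ K ∧ wv K ≠ 0 := by
      intro K hK
      refine ⟨?_, fun e => hw0 (by
        rw [← rep_inv_cancel ρ (r K) (w : V), show ρ (r K) (w : V) = 0 from e, map_zero])⟩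
      have := map_fixSp_le ρ (r K) w.2
      rwa [hSr K hK] at this
    refine ⟨∑ K ∈ S, wv K, fun h hfix => ?_⟩
    have hperm := perm_of_fixed ρ hp.out hpF (hP.to_le hEP) hEc S wv hSw hwv (hconj _) hfix
    have hKS : (h • K₀).1 ∈ S :=
      Finset.mem_map.mpr ⟨h • K₀, (Set.Finite.mem_toFinset _).mpr (MulAction.mem_orbit _ _), rfl⟩
    have h2 := (hperm _ hKS).2
    have hfixK : (h * a * h⁻¹) • (h • K₀) = h • K₀ := by
      rw [← mul_smul, inv_mul_cancel_right, mul_smul, hmove]
    rw [← hsm, hfixK] at h2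
    set R := r (h • K₀).1 with hR
    have hk : h⁻¹ * R ∈ H₀ := by
      rw [hH₀, MulAction.mem_stabilizer_iff, mul_smul, inv_smul_eq_iff]
      exact Subtype.ext (hSr _ hKS)
    refine hw (⟨h⁻¹ * R, hk⟩ : H₀)⁻¹ (Subtype.ext ?_)
    change ρ ((h⁻¹ * R)⁻¹ * a * (h⁻¹ * R)⁻¹⁻¹) (w : V) = (w : V)
    change ρ (h * a * h⁻¹) (ρ R (w : V)) = ρ R (w : V) at h2
    rw [show (h⁻¹ * R)⁻¹ * a * (h⁻¹ * R)⁻¹⁻¹ = R⁻¹ * ((h * a * h⁻¹) * R) by group, rep_mul, rep_mul, h2,
      rep_inv_cancel]

end CfsgLib.ClassSubnormal
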