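import Mathlib

/-!
# Fixed spaces of an elementary abelian group in coprime characteristic
-/

set_option autoImplicit false
set_option linter.unusedSectionVars false

namespace CfsgLib.ClassSubnormal

open Pointwise

variable {F : Type*} [Field F] {H : Type*} [Group H] {V : Type*} [AddCommGroup V] [Module F V]

/-- Vectors fixed by all elements of `K`. -/
def fixSp (ρ : Representation F H V) (K : Subgroup H) : Submodule F V where
  carrier := {v | ∀ k ∈ K, ρ k v = v}
  add_mem' := fun {a b} ha hb k hk => by rw [map_add, ha k hk, hb k hk]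
  zero_mem' := fun k _ => map_zero _
  smul_mem' := fun c {a} ha k hk => by rw [map_smul, ha k hk]

theorem mem_fixSp (ρ : Representation F H V) {K : Subgroup H} {v : V} :
    v ∈ fixSp ρ K ↔ ∀ k ∈ K, ρ k v = v := Iff.rfl

theorem rep_mul (ρ : Representation F H V) (x y : H) (v : V) : ρ (x * y) v = ρ x (ρ y v) := by
  rw [map_mul]; rfl

theorem rep_inv_cancel (ρ : Representation F H V) (x : H) (v : V) : ρ x⁻¹ (ρ x v) = v := by
  rw [← rep_mul, inv_mul_cancel, map_one]; rfl

theorem rep_cancel_inv (ρ : Representation F H V) (x : H) (v : V) : ρ x (ρ x⁻¹ v) = v := by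
  rw [← rep_mul, mul_inv_cancel, map_one]; rfl

theorem map_fixSp_le (ρ : Representation F H V) (g : H) {K : Subgroup H} {v : V} (hv : v ∈ fixSp ρ K) :
    ρ g v ∈ fixSp ρ (MulAut.conj g • K) := by
  rw [mem_fixSp]
  rintro _ ⟨k, hk, rfl⟩
  change ρ (g * k * g⁻¹) (ρ g v) = _
  rw [← rep_mul, show g * k * g⁻¹ * g = g * k by group, rep_mul, hv k hk]

/-- Fixed vectors of pairwise commuting `p`-groups without common fixed vectors are independent. -/
theorem eq_zero_of_sum_eq_zero [Finite H] (ρ : Representation F H V) {p : ℕ} (hpF : (p : F) ≠ 0)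
    {ι : Type*} [DecidableEq ι] (s : Finset ι) (K : ι → Subgroup H) (v : ι → V)
    (hK : ∀ i ∈ s, IsPGroup p (K i)) (hp : p.Prime) (hv : ∀ i ∈ s, v i ∈ fixSp ρ (K i))
    (hcomm : ∀ i ∈ s, ∀ j ∈ s, ∀ x ∈ K i, ∀ y ∈ K j, x * y = y * x)
    (hdis : ∀ i ∈ s, ∀ j ∈ s, i ≠ j → ∀ w, w ∈ fixSp ρ (K i) → w ∈ fixSp ρ (K j) → w = 0)
    (hsum : ∑ i ∈ s, v i = 0) : ∀ i ∈ s, v i = 0 := by
  classical
  have := Fact.mk hp
  intro i hi
  let _ := Fintype.ofFinite (K i)
  set T : V →ₗ[F] V := ∑ k : K i, ρ k with hT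
  have hTapply : ∀ w, T w = ∑ k : K i, ρ k w := fun w => by simp [hT]
  have hTfix : ∀ w, T w ∈ fixSp ρ (K i) := by
    intro w k hk
    rw [hTapply, map_sum]
    exact Fintype.sum_equiv (Equiv.mulLeft (⟨k, hk⟩ : K i)) _ _ fun x => (rep_mul ρ k x w).symm.trans rfl
  have hTpres : ∀ j ∈ s, ∀ w ∈ fixSp ρ (K j), T w ∈ fixSp ρ (K j) := by
    intro j hj w hw k hk
    rw [hTapply, map_sum]
    refine Finset.sum_congr rfl fun x _ => ?_
    rw [← rep_mul, ← hcomm i hi j hj x x.2 k hk, rep_mul, hw k hk]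
  have hsum' := congrArg T hsum
  rw [map_sum, map_zero, Finset.sum_eq_single i
    (fun j hj hne => hdis i hi j hj hne.symm _ (hTfix _) (hTpres j hj _ (hv j hj)))
    (fun h => absurd hi h), hTapply, Finset.sum_congr rfl fun (k : K i) _ => hv i hi k k.2,
    Finset.sum_const, Finset.card_univ, ← Nat.card_eq_fintype_card] at hsum'
  obtain ⟨n, hn⟩ := IsPGroup.exists_card_eq (hK i hi)
  rw [hn, ← Nat.cast_smul_eq_nsmul F, Nat.cast_pow, smul_eq_zero] at hsum'
  exact hsum'.resolve_left (pow_ne_zero n hpF)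

/-- `K` is the full stabiliser in `E` of each of its nonzero fixed vectors, and has one. -/
def IsWeight (ρ : Representation F H V) (E K : Subgroup H) : Prop :=
  K ≤ E ∧ (∃ w ∈ fixSp ρ K, w ≠ 0) ∧
    ∀ w ∈ fixSp ρ K, w ≠ 0 → ∀ b ∈ E, ρ b w = w → b ∈ K

theorem exists_isWeight [Finite H] [Nontrivial V] (ρ : Representation F H V) (E : Subgroup H) :
    ∃ K, IsWeight ρ E K := by
  obtain ⟨w, hw⟩ := exists_ne (0 : V)
  obtain ⟨K, ⟨hKE, hKw⟩, hmax⟩ := Set.Finite.exists_maximal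
    (s := {K : Subgroup H | K ≤ E ∧ ∃ w ∈ fixSp ρ K, w ≠ 0}) (Set.toFinite _)
    ⟨⊥, bot_le, w, fun k hk => by rw [Subgroup.mem_bot.mp hk, map_one]; rfl, hw⟩
  refine ⟨K, hKE, hKw, fun w hw hw0 b hb hbw => ?_⟩
  have hstab : ∀ k ∈ K ⊔ Subgroup.zpowers b, ρ k w = w := by
    intro k hk
    let S : Subgroup H :=
      { carrier := {x | ρ x w = w}
        one_mem' := by rw [Set.mem_ofPred_eq, map_one]; rfl
        mul_mem' := fun {x y} hx hy => by
          rw [Set.mem_ofPred_eq] at hx hy ⊢; rw [rep_mul, hy, hx]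
        inv_mem' := fun {x} hx => by
          rw [Set.mem_ofPred_eq] at hx ⊢; conv_lhs => rw [← hx]
          exact rep_inv_cancel ρ x w }
    exact (sup_le (fun x hx => hw x hx) (Subgroup.zpowers_le.mpr hbw) : _ ≤ S) hk
  exact hmax ⟨sup_le hKE (Subgroup.zpowers_le.mpr hb), w, hstab, hw0⟩ le_sup_left
    (Subgroup.mem_sup_right (Subgroup.mem_zpowers b))

theorem IsWeight.eq_zero {ρ : Representation F H V} {E K K' : Subgroup H} (hK : IsWeight ρ E K)
    (hK' : IsWeight ρ E K') (hne : K ≠ K') {w : V} (h : w ∈ fixSp ρ K) (h' : w ∈ fixSp ρ K') :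
    w = 0 := by
  by_contra hw
  exact hne (le_antisymm (fun k hk => hK'.2.2 w h' hw k (hK.1 hk) (h k hk))
    fun k hk => hK.2.2 w h hw k (hK'.1 hk) (h' k hk))

theorem IsWeight.conj {ρ : Representation F H V} {E K : Subgroup H} (hK : IsWeight ρ E K) (g : H)
    (hgE : ∀ x, g * x * g⁻¹ ∈ E ↔ x ∈ E) : IsWeight ρ E (MulAut.conj g • K) := by
  obtain ⟨hKE, ⟨w, hw, hw0⟩, hmax⟩ := hK
  refine ⟨?_, ⟨ρ g w, map_fixSp_le ρ g hw, fun h => hw0 ?_⟩, fun u hu hu0 b hb hbu => ?_⟩
  · rintro _ ⟨k, hk, rfl⟩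
    exact (hgE k).mpr (hKE hk)
  · rw [← rep_inv_cancel ρ g w, h, map_zero]
  have h1 := map_fixSp_le ρ g⁻¹ hu
  rw [smul_smul, ← map_mul, inv_mul_cancel, map_one, one_smul] at h1
  have hbE : g⁻¹ * b * g ∈ E := (hgE _).mp (by rwa [show g * (g⁻¹ * b * g) * g⁻¹ = b by group])
  have hu0' : ρ g⁻¹ u ≠ 0 := fun h => hu0 (by rw [← rep_cancel_inv ρ g u, h, map_zero])
  have hbk : g⁻¹ * b * g ∈ K := hmax _ h1 hu0' _ hbE (by
    rw [← rep_mul, show g⁻¹ * b * g * g⁻¹ = g⁻¹ * b by group, rep_mul, hbu])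
  refine ⟨g⁻¹ * b * g, hbk, ?_⟩
  change g * (g⁻¹ * b * g) * g⁻¹ = b
  group

/-- An element fixing a sum of weight vectors permutes them. -/
theorem perm_of_fixed [Finite H] (ρ : Representation F H V) {p : ℕ} (hp : p.Prime)
    (hpF : (p : F) ≠ 0) {E : Subgroup H} (hE : IsPGroup p E)
    (hEc : ∀ x ∈ E, ∀ y ∈ E, x * y = y * x) (S : Finset (Subgroup H)) (w : Subgroup H → V)
    (hS : ∀ K ∈ S, IsWeight ρ E K) (hw : ∀ K ∈ S, w K ∈ fixSp ρ K ∧ w K ≠ 0) {b : H}
    (hb : ∀ x, b * x * b⁻¹ ∈ E ↔ x ∈ E) (hfix : ρ b (∑ K ∈ S, w K) = ∑ K ∈ S, w K) :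
    ∀ K ∈ S, MulAut.conj b • K ∈ S ∧ ρ b (w K) = w (MulAut.conj b • K) := by
  classical
  let c : Subgroup H → Subgroup H := fun K => MulAut.conj b • K
  have hci : ∀ K, (MulAut.conj b)⁻¹ • c K = K := fun K => inv_smul_smul _ _
  set T : Finset (Subgroup H) := S.image c with hT
  let f : Subgroup H → V := fun L =>
    (if L ∈ T then ρ b (w ((MulAut.conj b)⁻¹ • L)) else 0) - (if L ∈ S then w L else 0)
  have hmemT : ∀ L, L ∈ T → (MulAut.conj b)⁻¹ • L ∈ S ∧ c ((MulAut.conj b)⁻¹ • L) = L := by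
    intro L hL
    obtain ⟨K, hK, rfl⟩ := Finset.mem_image.mp hL
    exact ⟨by rw [hci]; exact hK, smul_inv_smul _ _⟩
  have hweight : ∀ L ∈ T ∪ S, IsWeight ρ E L := by
    intro L hL
    rcases Finset.mem_union.mp hL with h | h
    · obtain ⟨h1, h2⟩ := hmemT L h
      rw [← h2]
      exact (hS _ h1).conj b hb
    · exact hS L h
  have hzero : ∀ L ∈ T ∪ S, f L = 0 := by
    refine eq_zero_of_sum_eq_zero ρ hpF (T ∪ S) id f (fun L hL => hE.to_le (hweight L hL).1) hp
      (fun L hL => sub_mem ?_ ?_)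
      (fun L hL L' hL' x hx y hy => hEc x ((hweight L hL).1 hx) y ((hweight L' hL').1 hy))
      (fun L hL L' hL' hne u hu hu' => (hweight L hL).eq_zero (hweight L' hL') hne hu hu') ?_
    · split_ifs with h
      · obtain ⟨h1, h2⟩ := hmemT L h
        have h3 := map_fixSp_le ρ b (hw _ h1).1
        rw [show MulAut.conj b • ((MulAut.conj b)⁻¹ • L) = L from h2] at h3
        exact h3
      · exact zero_mem _
    · split_ifs with h
      · exact (hw _ h).1
      · exact zero_mem _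
    · simp only [f, Finset.sum_sub_distrib]
      rw [← Finset.sum_filter, ← Finset.sum_filter,
        Finset.filter_mem_eq_inter, Finset.filter_mem_eq_inter,
        Finset.inter_eq_right.mpr Finset.subset_union_left,
        Finset.inter_eq_right.mpr Finset.subset_union_right, hT,
        Finset.sum_image (fun x _ y _ h => smul_left_cancel _ h)]
      rw [Finset.sum_congr rfl fun K _ => show ρ b (w ((MulAut.conj b)⁻¹ • c K)) = ρ b (w K) by rw [hci],
        ← map_sum, hfix, sub_self]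
  intro K hK
  have hcT : c K ∈ T := Finset.mem_image_of_mem _ hK
  have h := hzero (c K) (Finset.mem_union_left _ hcT)
  simp only [f, if_pos hcT, hci] at h
  by_cases hcS : c K ∈ S
  · rw [if_pos hcS, sub_eq_zero] at h
    exact ⟨hcS, h⟩
  · rw [if_neg hcS, sub_zero] at h
    exact absurd (by rw [← rep_inv_cancel ρ b (w K), h, map_zero]) (hw K hK).2

/-- Two independent commuting elements of order `p` cannot act fixed-point-freely together on the
fixed space of a subgroup they centralise. -/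
theorem false_of_fpf_pair [Finite H] (ρ : Representation F H V) {p : ℕ}
    [hp : Fact p.Prime] (hpF : (p : F) ≠ 0) {K : Subgroup H} {w : V} (hwK : w ∈ fixSp ρ K) (hw : w ≠ 0)
    {x y : H} (hxy : x * y = y * x) (hxK : ∀ k ∈ K, x * k = k * x) (hyK : ∀ k ∈ K, y * k = k * y)
    (hx : x ^ p = 1) (hy : y ^ p = 1) (hy1 : y ≠ 1) (hxy' : x ∉ Subgroup.zpowers y)
    (hfree : ∀ e, e ∈ Subgroup.closure ({x, y} : Set H) → e ≠ 1 →
      ∀ u ∈ fixSp ρ K, ρ e u = u → u = 0) : False := by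
  classical
  have hcK : ∀ e, e ∈ Subgroup.closure ({x, y} : Set H) → ∀ u ∈ fixSp ρ K, ρ e u ∈ fixSp ρ K := by
    intro e he u hu k hk
    have h : e ∈ Subgroup.centralizer (K : Set H) := by
      refine (Subgroup.closure_le _).mpr ?_ he
      rintro z (rfl | rfl)
      · exact Subgroup.mem_centralizer_iff.mpr fun k hk => (hxK k hk).symm
      · exact Subgroup.mem_centralizer_iff.mpr fun k hk => (hyK k hk).symm
    rw [← rep_mul, Subgroup.mem_centralizer_iff.mp h k hk, rep_mul, hu k hk]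
  have hzero : ∀ e, e ∈ Subgroup.closure ({x, y} : Set H) → e ≠ 1 → e ^ p = 1 →
      ∑ t ∈ Finset.range p, ρ (e ^ t) w = 0 := by
    intro e he he1 hep
    refine hfree e he he1 _ (sum_mem fun t _ => hcK _ (pow_mem he t) w hwK) ?_
    rw [map_sum]
    have h := Finset.sum_range_succ' (fun t => ρ (e ^ t) w) p
    rw [Finset.sum_range_succ, hep, pow_zero] at h
    have h' := add_right_cancel h
    simp only [← rep_mul, ← pow_succ']
    exact h'.symm
  have hxm : x ∈ Subgroup.closure ({x, y} : Set H) := Subgroup.subset_closure (by simp)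
  have hym : y ∈ Subgroup.closure ({x, y} : Set H) := Subgroup.subset_closure (by simp)
  have hc : Commute x y := hxy
  have hline : ∀ s : ℕ, ∑ t ∈ Finset.range p, ρ (x ^ t) (ρ (y ^ (s * t)) w) = 0 := by
    intro s
    rw [Finset.sum_congr rfl fun t _ => show ρ (x ^ t) (ρ (y ^ (s * t)) w) = ρ ((x * y ^ s) ^ t) w by
      rw [← rep_mul, (hc.pow_right s).mul_pow, ← pow_mul]]
    refine hzero _ (mul_mem hxm (pow_mem hym s)) (fun h => hxy' ?_) ?_
    · rw [eq_inv_of_mul_eq_one_left h]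
      exact inv_mem (Subgroup.npow_mem_zpowers y s)
    · rw [(hc.pow_right s).mul_pow, hx, ← pow_mul, mul_comm, pow_mul, hy, one_pow, one_mul]
  have htot : ∑ s ∈ Finset.range p, ∑ t ∈ Finset.range p, ρ (x ^ t) (ρ (y ^ (s * t)) w) = 0 :=
    Finset.sum_eq_zero fun s _ => hline s
  rw [Finset.sum_comm, Finset.sum_eq_single 0] at htot
  · simp only [pow_zero, mul_zero, map_one, Module.End.one_apply, Finset.sum_const,
      Finset.card_range, ← Nat.cast_smul_eq_nsmul F, smul_eq_zero] at htot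
    exact htot.elim hpF hw
  · intro t ht ht0
    rw [← map_sum, show (∑ s ∈ Finset.range p, ρ (y ^ (s * t)) w) = 0 from ?_, map_zero]
    rw [Finset.mem_range] at ht
    have hyt : y ^ t ≠ 1 := by
      intro h
      have h1 := orderOf_dvd_of_pow_eq_one h
      rw [orderOf_eq_prime hy hy1] at h1
      exact ht0 (Nat.eq_zero_of_dvd_of_lt h1 ht)
    rw [Finset.sum_congr rfl fun s _ => by rw [mul_comm s t, pow_mul]]
    exact hzero _ (pow_mem hym t) hyt (by rw [← pow_mul, mul_comm, pow_mul, hy, one_pow])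
  · intro h
    exact absurd (Finset.mem_range.mpr hp.out.pos) h

end CfsgLib.ClassSubnormal
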