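import Cfsg.Agent.ClassSubnormal.Sums
import Cfsg.Agent.Transfer.RankTwoNormal
import Cfsg.Agent.BlocksCharsC.PGroupCenter

/-!
# Primitive actions of `p`-groups of symplectic type
-/

set_option autoImplicit false
set_option linter.unusedSectionVars false

namespace CfsgLib.ClassSubnormal

open Pointwise
open scoped commutatorElement

variable {F : Type*} [Field F] {H : Type*} [Group H] [Finite H]
  {V : Type*} [AddCommGroup V] [Module F V] [Nontrivial V]

theorem fixSp_eq_bot (ρ : Representation F H V) (hinj : Function.Injective ρ)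
    (hirr : ∀ W : Submodule F V, (∀ g, ∀ w ∈ W, ρ g w ∈ W) → W = ⊥ ∨ W = ⊤)
    {N : Subgroup H} [hN : N.Normal] (hne : N ≠ ⊥) : fixSp ρ N = ⊥ := by
  refine (hirr _ fun g w hw => ?_).resolve_right fun h => hne ?_
  · have := map_fixSp_le ρ g hw
    rwa [Subgroup.Normal.conj_smul_eq_self g N] at this
  · rw [eq_bot_iff]
    intro n hn
    rw [Subgroup.mem_bot]
    refine hinj (LinearMap.ext fun v => ?_)
    rw [map_one]
    exact (show v ∈ fixSp ρ N by rw [h]; exact Submodule.mem_top) n hn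

theorem exists_moved_of_no_abelian (ρ : Representation F H V) {p : ℕ} [hp : Fact p.Prime]
    (hp2 : p ≠ 2) (hpF : (p : F) ≠ 0) (hinj : Function.Injective ρ)
    (hirr : ∀ W : Submodule F V, (∀ g, ∀ w ∈ W, ρ g w ∈ W) → W = ⊥ ∨ W = ⊤)
    (P : Subgroup H) [hPn : P.Normal] (hP : IsPGroup p P) {a : H} (haP : a ∈ P) (hap : a ^ p = 1)
    (ha1 : a ≠ 1)
    (hnoE : ∀ E : Subgroup H, E.Normal → E ≤ P → (∀ x ∈ E, x ^ p = 1) →
      (∀ x ∈ E, ∀ y ∈ E, x * y = y * x) → Nat.card E ≤ p) :
    ∃ v : V, ∀ h : H, ρ (h * a * h⁻¹) v ≠ v := by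
  classical
  -- the centre of exponent `p`
  let Z : Subgroup H :=
    { carrier := {x | x ∈ P ∧ x ^ p = 1 ∧ ∀ y ∈ P, Commute x y}
      one_mem' := ⟨one_mem _, one_pow _, fun y _ => Commute.one_left y⟩
      mul_mem' := fun {x y} hx hy => ⟨mul_mem hx.1 hy.1,
        by rw [(hx.2.2 y hy.1).mul_pow, hx.2.1, hy.2.1, one_mul],
        fun w hw => (hx.2.2 w hw).mul_left (hy.2.2 w hw)⟩
      inv_mem' := fun {x} hx => ⟨inv_mem hx.1, by rw [inv_pow, hx.2.1, inv_one],
        fun w hw => (hx.2.2 w hw).inv_left⟩ }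
  have hconjP : ∀ (g x : H), x ∈ P → g * x * g⁻¹ ∈ P := fun g x hx => hPn.conj_mem x hx g
  have hcommP : ∀ (g x : H), (∀ y ∈ P, Commute x y) → ∀ y ∈ P, Commute (g * x * g⁻¹) y := by
    intro g x hx y hy
    have h := (hx (g⁻¹ * y * g) (by simpa using hconjP g⁻¹ y hy)).map (MulAut.conj g).toMonoidHom
    simpa [mul_assoc] using h
  have hZn : Z.Normal := ⟨fun x hx g => ⟨hconjP g x hx.1, by rw [conj_pow, hx.2.1]; group,
    hcommP g x hx.2.2⟩⟩
  have hZcard : Nat.card Z = p := by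
    refine le_antisymm (hnoE Z hZn (fun x hx => hx.1) (fun x hx => hx.2.1)
      fun x hx y hy => hx.2.2 y hy.1) ?_
    have : Nontrivial P := ⟨⟨⟨a, haP⟩, 1, fun h => ha1 (congrArg Subtype.val h)⟩⟩
    have hc := hP.center_nontrivial
    obtain ⟨z, hz⟩ := exists_prime_orderOf_dvd_card' p
      ((hP.to_subgroup (Subgroup.center P)).card_eq_or_dvd.resolve_left
        (Finite.one_lt_card_iff_nontrivial.mpr hc).ne')
    have hzp : ((z : P) : H) ^ p = 1 := by
      rw [← hz, ← Subgroup.orderOf_coe, ← Subgroup.orderOf_coe, pow_orderOf_eq_one]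
    have hzZ : ((z : P) : H) ∈ Z := ⟨(z : P).2, hzp, fun y hy =>
      (congrArg Subtype.val (Subgroup.mem_center_iff.mp z.2 ⟨y, hy⟩)).symm⟩
    have h1 := Subgroup.orderOf_dvd_natCard Z hzZ
    rw [Subgroup.orderOf_coe, Subgroup.orderOf_coe, hz] at h1
    exact Nat.le_of_dvd Nat.card_pos h1
  have hZgen : ∀ z ∈ Z, z ≠ 1 → Subgroup.zpowers z = Z := fun z hz hz1 =>
    Subgroup.eq_of_le_of_card_ge (Subgroup.zpowers_le.mpr hz)
      (by rw [hZcard, Nat.card_zpowers, orderOf_eq_prime hz.2.1 hz1])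
  have hfpf : ∀ z ∈ Z, z ≠ 1 → ∀ u : V, ρ z u = u → u = 0 := by
    intro z hz hz1 u hu
    have hb : fixSp ρ Z = ⊥ := fixSp_eq_bot ρ hinj hirr (N := Z) fun h =>
      hz1 (Subgroup.mem_bot.mp (h ▸ hz))
    have hmem : u ∈ fixSp ρ Z := by
      intro k hk
      rw [← hZgen z hz hz1] at hk
      obtain ⟨i, rfl⟩ := Subgroup.mem_zpowers_iff.mp hk
      let S : Subgroup H :=
        { carrier := {x | ρ x u = u}
          one_mem' := by rw [Set.mem_ofPred_eq, map_one]; rfl
          mul_mem' := fun {x y} hx hy => by rw [Set.mem_ofPred_eq] at hx hy ⊢; rw [rep_mul, hy, hx]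
          inv_mem' := fun {x} hx => by
            rw [Set.mem_ofPred_eq] at hx ⊢; conv_lhs => rw [← hx]
            exact rep_inv_cancel ρ x u }
      exact S.zpow_mem hu i
    rwa [hb, Submodule.mem_bot] at hmem
  -- the class-two part
  have hcz : ∀ c ∈ Z, ∀ g ∈ P, g * c * g⁻¹ = c := fun c hc g hg => by
    rw [← (hc.2.2 g hg).eq, mul_inv_cancel_right]
  let U : Subgroup H :=
    { carrier := {x | x ∈ P ∧ x ^ p = 1 ∧ ∀ y ∈ P, ⁅x, y⁆ ∈ Z}
      one_mem' := ⟨one_mem _, one_pow _, fun y _ => by rw [commutatorElement_one_left]; exact one_mem _⟩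
      mul_mem' := fun {x y} hx hy => by
        refine ⟨mul_mem hx.1 hy.1, ?_, fun w hw => ?_⟩
        · have := CfsgLib.OddOrder.BG4.mul_pow_eq_one (R := P) (x := ⟨x, hx.1⟩) (y := ⟨y, hy.1⟩) hp2
            (fun z => Subtype.ext ((hy.2.2 x hx.1).2.2 z z.2).eq) (Subtype.ext hx.2.1) (Subtype.ext hy.2.1)
          exact congrArg Subtype.val this
        · rw [show ⁅x * y, w⁆ = x * ⁅y, w⁆ * x⁻¹ * ⁅x, w⁆ by simp only [commutatorElement_def]; group,
            hcz _ (hy.2.2 w hw) x hx.1]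
          exact mul_mem (hy.2.2 w hw) (hx.2.2 w hw)
      inv_mem' := fun {x} hx => by
        refine ⟨inv_mem hx.1, by rw [inv_pow, hx.2.1, inv_one], fun w hw => ?_⟩
        rw [show ⁅x⁻¹, w⁆ = x⁻¹ * ⁅x, w⁆⁻¹ * x⁻¹⁻¹ by simp only [commutatorElement_def]; group,
          hcz _ (inv_mem (hx.2.2 w hw)) _ (inv_mem hx.1)]
        exact inv_mem (hx.2.2 w hw) }
  have hUn : U.Normal := ⟨fun x hx g => ⟨hconjP g x hx.1, by rw [conj_pow, hx.2.1]; group, fun y hy => by
    have h := hZn.conj_mem _ (hx.2.2 (g⁻¹ * y * g) (by simpa using hconjP g⁻¹ y hy)) g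
    convert h using 1
    simp only [commutatorElement_def]
    group⟩⟩
  have hUP : U ≤ P := fun x hx => hx.1
  have hZU : Z ≤ U := fun x hx => ⟨hx.1, hx.2.1, fun y hy => by
    rw [commutatorElement_eq_one_iff_mul_comm.mpr (hx.2.2 y hy).eq]; exact one_mem _⟩
  set D : Subgroup H := P ⊓ Subgroup.centralizer (U : Set H) with hD
  have hDn : D.Normal := inferInstance
  have hDU : ∀ x, x ∈ D → x ∈ U → x ∈ Z := by
    intro x hxD hxU
    have hle : Z ≤ D ⊓ U := fun z hz => ⟨⟨hz.1, Subgroup.mem_centralizer_iff.mpr fun u hu =>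
      (hz.2.2 u (hUP hu)).eq.symm⟩, hZU hz⟩
    have := Subgroup.eq_of_le_of_card_ge hle ((hnoE (D ⊓ U) inferInstance (inf_le_left.trans inf_le_left)
      (fun y hy => hy.2.2.1) (fun y hy w hw =>
        (Subgroup.mem_centralizer_iff.mp hy.1.2 w hw.2).symm)).trans hZcard.ge)
    rw [this]
    exact ⟨hxD, hxU⟩
  have hbound : ∀ n, ∀ S : Subgroup H, Nat.card S ≤ n → Z ≤ S → S ≤ U →
      (P ⊓ Subgroup.centralizer (S : Set H)).relIndex P * p ≤ Nat.card S := by
    intro n
    induction n with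
    | zero => intro S hS; exact absurd (Nat.card_pos (α := S)) (by omega)
    | succ n ih =>
      intro S hSn hZS hSU
      by_cases hSZ : S = Z
      · have : P ≤ P ⊓ Subgroup.centralizer (S : Set H) := le_inf le_rfl fun g hg =>
          Subgroup.mem_centralizer_iff.mpr fun z hz => ((hSZ ▸ hz : z ∈ Z).2.2 g hg).eq
        rw [Subgroup.relIndex_eq_one.mpr this, one_mul, hSZ, hZcard]
      obtain ⟨S', ⟨hZS', hS'S⟩, hmax⟩ := Set.Finite.exists_maximal
        (s := {X : Subgroup H | Z ≤ X ∧ X < S}) (Set.toFinite _)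
        ⟨Z, le_rfl, lt_of_le_of_ne hZS (Ne.symm hSZ)⟩
      obtain ⟨u, huS, huS'⟩ := SetLike.exists_of_lt hS'S
      have hgen : S' ⊔ Subgroup.zpowers u = S := by
        rcases (sup_le hS'S.le (Subgroup.zpowers_le.mpr huS) : S' ⊔ Subgroup.zpowers u ≤ S).lt_or_eq
          with h | h
        · exact absurd (hmax ⟨hZS'.trans le_sup_left, h⟩ le_sup_left
            (Subgroup.mem_sup_right (Subgroup.mem_zpowers u))) huS'
        · exact h
      have hcard : p * Nat.card S' ≤ Nat.card S := by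
        obtain ⟨i, hi⟩ := IsPGroup.exists_card_eq ((hP.to_le hUP).to_le hSU)
        obtain ⟨j, hj⟩ := IsPGroup.exists_card_eq ((hP.to_le hUP).to_le (hS'S.le.trans hSU))
        have hlt : Nat.card S' < Nat.card S :=
          lt_of_le_of_ne (Subgroup.card_le_of_le hS'S.le) fun h =>
            hS'S.ne (Subgroup.eq_of_le_of_card_ge hS'S.le h.ge)
        rw [hi, hj] at hlt ⊢
        have := (Nat.pow_lt_pow_iff_right hp.out.one_lt).mp hlt
        rw [← pow_succ']
        exact Nat.pow_le_pow_right hp.out.pos this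
      have hIH := ih S' (by
        have h2 : 2 * Nat.card S' ≤ p * Nat.card S' := Nat.mul_le_mul_right _ hp.out.two_le
        have := Nat.card_pos (α := S')
        omega) hZS' (hS'S.le.trans hSU)
      have huU := hSU huS
      let φ : P →* H :=
        { toFun := fun y => ⁅u, (y : H)⁆
          map_one' := by simp
          map_mul' := fun y y' => by
            rw [Subgroup.coe_mul, show ⁅u, (y : H) * y'⁆ = ⁅u, (y : H)⁆ * ((y : H) * ⁅u, (y' : H)⁆ * (y : H)⁻¹) by
              simp only [commutatorElement_def]; group, hcz _ (huU.2.2 y' y'.2) y y.2] }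
      have hu : (P ⊓ Subgroup.centralizer ({u} : Set H)).relIndex P ≤ p := by
        have hk : φ.ker = (P ⊓ Subgroup.centralizer ({u} : Set H)).subgroupOf P := by
          ext y
          rw [MonoidHom.mem_ker, Subgroup.mem_subgroupOf]
          change ⁅u, (y : H)⁆ = 1 ↔ _
          rw [commutatorElement_eq_one_iff_mul_comm, Subgroup.mem_inf,
            Subgroup.mem_centralizer_singleton_iff]
          exact ⟨fun h => ⟨y.2, h.symm⟩, fun h => h.2.symm⟩
        rw [Subgroup.relIndex, ← hk, Subgroup.index_ker, ← hZcard]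
        exact Subgroup.card_le_of_le (by rintro _ ⟨y, rfl⟩; exact huU.2.2 y y.2)
      have hcs : (P ⊓ Subgroup.centralizer (S' : Set H)) ⊓ (P ⊓ Subgroup.centralizer ({u} : Set H)) ≤
          P ⊓ Subgroup.centralizer (S : Set H) := by
        rintro g ⟨⟨hgP, hg1⟩, -, hg2⟩
        refine ⟨hgP, Subgroup.mem_centralizer_iff.mpr fun s hs => ?_⟩
        have hsle : S ≤ Subgroup.centralizer ({g} : Set H) := by
          rw [← hgen]
          refine sup_le (fun x hx => Subgroup.mem_centralizer_singleton_iff.mpr ?_)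
            (Subgroup.zpowers_le.mpr (Subgroup.mem_centralizer_singleton_iff.mpr ?_))
          · exact Subgroup.mem_centralizer_iff.mp hg1 x hx
          · exact (Subgroup.mem_centralizer_singleton_iff.mp hg2).symm
        exact Subgroup.mem_centralizer_singleton_iff.mp (hsle hs)
      calc (P ⊓ Subgroup.centralizer (S : Set H)).relIndex P * p
          ≤ ((P ⊓ Subgroup.centralizer (S' : Set H)).relIndex P *
              (P ⊓ Subgroup.centralizer ({u} : Set H)).relIndex P) * p := by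
            refine Nat.mul_le_mul_right _ (le_trans ?_ Subgroup.relIndex_inf_le)
            exact Nat.le_of_dvd (Nat.pos_of_ne_zero Subgroup.index_ne_zero_of_finite)
              (Subgroup.relIndex_dvd_of_le_left _ hcs)
        _ = ((P ⊓ Subgroup.centralizer (S' : Set H)).relIndex P * p) *
              (P ⊓ Subgroup.centralizer ({u} : Set H)).relIndex P := by ring
        _ ≤ Nat.card S' * p := Nat.mul_le_mul hIH hu
        _ ≤ Nat.card S := by rw [mul_comm]; exact hcard
  have hPUD : P ≤ U ⊔ D := by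
    rw [← Subgroup.relIndex_eq_one]
    have h1 := hbound _ U le_rfl hZU le_rfl
    have h2 := Subgroup.relIndex_mul_relIndex D (U ⊔ D) P le_sup_right (sup_le hUP inf_le_left)
    have h3 : D.relIndex U * p = Nat.card U := by
      rw [← Subgroup.inf_relIndex_right]
      have h4 : D ⊓ U = Z := le_antisymm (fun x hx => hDU x hx.1 hx.2) fun z hz =>
        ⟨⟨hz.1, Subgroup.mem_centralizer_iff.mpr fun u hu => (hz.2.2 u (hUP hu)).eq.symm⟩, hZU hz⟩
      rw [h4, mul_comm, ← hZcard]
      simpa using Subgroup.relIndex_mul_relIndex (⊥ : Subgroup H) Z U bot_le hZU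
    rw [Subgroup.relIndex_sup_right] at h2
    rw [← h3] at h1
    have h5 := Nat.le_of_mul_le_mul_right h1 hp.out.pos
    rw [← hD, ← h2] at h5
    have hpos : 0 < D.relIndex U := Nat.pos_of_ne_zero Subgroup.index_ne_zero_of_finite
    have hpos' : 0 < (U ⊔ D).relIndex P := Nat.pos_of_ne_zero Subgroup.index_ne_zero_of_finite
    have := Nat.le_of_mul_le_mul_left (h5.trans (mul_one _).ge) hpos
    omega
  have hDZ : ∀ x ∈ D, x ^ p = 1 → x ∈ Z := by
    by_cases hcyc : IsCyclic D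
    · intro x hx hxp
      let _ := Fintype.ofFinite D
      have hle := IsCyclic.card_pow_eq_one_le (α := D) (n := p) hp.out.pos
      have hZD : ∀ z ∈ Z, z ∈ D := fun z hz =>
        ⟨hz.1, Subgroup.mem_centralizer_iff.mpr fun u hu => (hz.2.2 u (hUP hu)).eq.symm⟩
      let _ := Fintype.ofFinite Z
      set im := (Finset.univ : Finset Z).image fun (z : Z) => (⟨z.1, hZD z z.2⟩ : D) with him
      have hc : im.card = p := by
        rw [him, Finset.card_image_of_injective, Finset.card_univ, ← Nat.card_eq_fintype_card, hZcard]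
        exact fun u v h => Subtype.ext (congrArg (fun t : D => (t : H)) h)
      have hsub : im ⊆ Finset.univ.filter fun y : D => y ^ p = 1 := by
        intro y hy
        obtain ⟨z, -, rfl⟩ := Finset.mem_image.mp hy
        exact Finset.mem_filter.mpr ⟨Finset.mem_univ _, Subtype.ext z.2.2.1⟩
      have heq := Finset.eq_of_subset_of_card_le hsub (hle.trans hc.ge)
      have : (⟨x, hx⟩ : D) ∈ im := by
        rw [heq]; exact Finset.mem_filter.mpr ⟨Finset.mem_univ _, Subtype.ext hxp⟩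
      obtain ⟨z, -, hz⟩ := Finset.mem_image.mp this
      have he : (z : H) = x := congrArg Subtype.val hz
      rw [← he]
      exact z.2
    exfalso
    have hDp : IsPGroup p D := hP.to_le inf_le_left
    obtain ⟨E, hEn, hE, hEcard⟩ := CfsgLib.Transfer.exists_normal_elem_card_sq hp2 hDp hcyc
    let W : Subgroup H :=
      { carrier := {x | x ∈ D ∧ x ^ p = 1 ∧ ∀ y ∈ D, ∀ w ∈ D, Commute ⁅x, y⁆ w}
        one_mem' := ⟨one_mem _, one_pow _, fun y _ w _ => by simp⟩
        mul_mem' := fun {x x'} hx hx' => by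
          refine ⟨mul_mem hx.1 hx'.1, ?_, fun y hy w hw => ?_⟩
          · have := CfsgLib.OddOrder.BG4.mul_pow_eq_one (R := D) (x := ⟨x, hx.1⟩) (y := ⟨x', hx'.1⟩) hp2
              (fun z => Subtype.ext (hx'.2.2 x hx.1 z z.2).eq) (Subtype.ext hx.2.1) (Subtype.ext hx'.2.1)
            exact congrArg Subtype.val this
          · rw [show ⁅x * x', y⁆ = x * ⁅x', y⁆ * x⁻¹ * ⁅x, y⁆ by simp only [commutatorElement_def]; group,
              ← (hx'.2.2 y hy x hx.1).eq, mul_inv_cancel_right]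
            exact (hx'.2.2 y hy w hw).mul_left (hx.2.2 y hy w hw)
        inv_mem' := fun {x} hx => by
          refine ⟨inv_mem hx.1, by rw [inv_pow, hx.2.1, inv_one], fun y hy w hw => ?_⟩
          rw [show ⁅x⁻¹, y⁆ = x⁻¹ * ⁅x, y⁆⁻¹ * x by simp only [commutatorElement_def]; group,
            ← ((hx.2.2 y hy x⁻¹ (inv_mem hx.1)).inv_left).eq, inv_mul_cancel_right]
          exact (hx.2.2 y hy w hw).inv_left }
    have hWn : W.Normal := ⟨fun x hx g => ⟨hDn.conj_mem x hx.1 g, by rw [conj_pow, hx.2.1]; group,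
      fun y hy w hw => by
        have h := (hx.2.2 (g⁻¹ * y * g) (by simpa using hDn.conj_mem y hy g⁻¹) (g⁻¹ * w * g)
          (by simpa using hDn.conj_mem w hw g⁻¹)).map (MulAut.conj g).toMonoidHom
        simp only [MulEquiv.coe_toMonoidHom, MulAut.conj_apply, commutatorElement_def] at h ⊢
        convert h using 1 <;> group⟩⟩
    have hEc : ∀ e ∈ E, ∀ y : D, ⁅e, y⁆ ∈ Subgroup.center D := by
      intro e he y
      set π := QuotientGroup.mk' (Subgroup.center D)
      have hne : E ≠ ⊥ := fun h => by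
        rw [h, Subgroup.card_bot] at hEcard
        have := Nat.one_lt_pow (by norm_num : 2 ≠ 0) hp.out.one_lt
        omega
      have : Nontrivial E := (Subgroup.nontrivial_iff_ne_bot E).mpr hne
      have hmeet := CfsgLib.BlocksCharsC.inf_center_ne_bot hDp E
      have hcard : Nat.card (E.map π) ∣ p := by
        rw [← Subgroup.relIndex_ker, QuotientGroup.ker_mk']
        have h1 : Nat.card ↥(E ⊓ Subgroup.center D) * (Subgroup.center D).relIndex E = p ^ 2 := by
          rw [← hEcard, ← Subgroup.inf_relIndex_right, inf_comm (Subgroup.center D)]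
          simpa using Subgroup.relIndex_mul_relIndex (⊥ : Subgroup D) (E ⊓ Subgroup.center D) E bot_le inf_le_left
        obtain ⟨i, hi⟩ := IsPGroup.exists_card_eq (hDp.to_subgroup (E ⊓ Subgroup.center D))
        have hi0 : i ≠ 0 := fun h => hmeet (Subgroup.eq_bot_of_card_eq _ (by rw [hi, h, pow_zero]))
        rw [hi] at h1
        obtain ⟨j, rfl⟩ := Nat.exists_eq_succ_of_ne_zero hi0
        rw [pow_succ, mul_comm (p ^ j), mul_assoc, sq] at h1
        exact Dvd.intro_left _ (Nat.eq_of_mul_eq_mul_left hp.out.pos h1)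
      have hm : (E.map π).Normal := hEn.map _ (QuotientGroup.mk'_surjective _)
      have hcen : E.map π ≤ Subgroup.center (D ⧸ Subgroup.center D) := by
        rcases (Nat.dvd_prime hp.out).mp hcard with h | h
        · exact (Subgroup.eq_bot_of_card_eq _ h).le.trans bot_le
        · exact CfsgLib.OddOrder.BG4.le_center_of_normal_card_prime (hDp.to_quotient _) h
      rw [← QuotientGroup.eq_one_iff]
      change π ⁅e, y⁆ = 1
      rw [map_commutatorElement, commutatorElement_eq_one_iff_mul_comm]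
      exact (Subgroup.mem_center_iff.mp (hcen ⟨e, he, rfl⟩) (π y)).symm
    have hEW : E.map D.subtype ≤ W := by
      rintro _ ⟨e, he, rfl⟩
      refine ⟨e.2, congrArg Subtype.val (hE.2 e he), fun y hy w hw => ?_⟩
      exact (congrArg Subtype.val (Subgroup.mem_center_iff.mp (hEc e he ⟨y, hy⟩) ⟨w, hw⟩)).symm
    have hWP : W ≤ P := fun x hx => hx.1.1
    set Z' := Z.subgroupOf P
    set π := QuotientGroup.mk' Z'
    have hW'ne : (W.subgroupOf P).map π ≠ ⊥ := by
      intro h
      have hle : W ≤ Z := fun x hx => by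
        have : π ⟨x, hWP hx⟩ ∈ (W.subgroupOf P).map π := ⟨_, Subgroup.mem_subgroupOf.mpr hx, rfl⟩
        rw [h, Subgroup.mem_bot] at this
        exact Subgroup.mem_subgroupOf.mp ((QuotientGroup.eq_one_iff _).mp this)
      have := Subgroup.card_le_of_le (hEW.trans hle)
      rw [Subgroup.card_map_of_injective D.subtype_injective, hEcard, hZcard] at this
      have h2 := Nat.pow_lt_pow_right hp.out.one_lt (one_lt_two : 1 < 2)
      rw [pow_one] at h2
      omega
    have hW'n : ((W.subgroupOf P).map π).Normal :=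
      (inferInstance : (W.subgroupOf P).Normal).map _ (QuotientGroup.mk'_surjective _)
    have := (Subgroup.nontrivial_iff_ne_bot _).mpr hW'ne
    obtain ⟨c, hc, hc1⟩ := CfsgLib.BlocksCharsC.exists_mem_ne_one
      (CfsgLib.BlocksCharsC.inf_center_ne_bot (hP.to_quotient Z') ((W.subgroupOf P).map π))
    obtain ⟨x, hx, rfl⟩ := hc.1
    refine hc1 ((QuotientGroup.eq_one_iff _).mpr (Subgroup.mem_subgroupOf.mpr
      (hDU x (hx : (x : H) ∈ W).1 ⟨x.2, (hx : (x : H) ∈ W).2.1, fun y hy => ?_⟩)))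
    have h1 : π ⁅x, ⟨y, hy⟩⁆ = 1 := by
      rw [map_commutatorElement, commutatorElement_eq_one_iff_mul_comm]
      exact (Subgroup.mem_center_iff.mp hc.2 (π ⟨y, hy⟩)).symm
    exact Subgroup.mem_subgroupOf.mp ((QuotientGroup.eq_one_iff _).mp h1)
  have haU : a ∈ U := by
    obtain ⟨u, hu, d, hd, hud⟩ := Subgroup.mem_sup_of_normal_right.mp (hPUD haP)
    have hcd : Commute u d := Subgroup.mem_centralizer_iff.mp hd.2 u hu
    have : d ^ p = 1 := by
      rw [← hud, hcd.mul_pow, hu.2.1, one_mul] at hap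
      exact hap
    rw [← hud]
    exact mul_mem hu (hZU (hDZ d hd this))
  by_cases haZ : a ∈ Z
  · obtain ⟨v, hv⟩ := exists_ne (0 : V)
    exact ⟨v, fun h e => hv (hfpf _ (hZn.conj_mem a haZ h)
      (fun e' => ha1 (conj_eq_one_iff.mp e')) v e)⟩
  -- a maximal abelian subgroup of `U`
  let S0 : Subgroup H := Z ⊔ Subgroup.zpowers a
  have hS0 : S0 ≤ Subgroup.centralizer (S0 : Set H) := by
    have h1 : Z ≤ Subgroup.centralizer (S0 : Set H) := by
      rw [Subgroup.le_centralizer_iff]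
      refine sup_le (fun x hx => Subgroup.mem_centralizer_iff.mpr fun z hz => (hz.2.2 x hx.1).eq)
        (Subgroup.zpowers_le.mpr (Subgroup.mem_centralizer_iff.mpr fun z hz => (hz.2.2 a haP).eq))
    refine sup_le h1 (Subgroup.zpowers_le.mpr ?_)
    have : S0 ≤ Subgroup.centralizer ({a} : Set H) :=
      sup_le (fun z hz => Subgroup.mem_centralizer_singleton_iff.mpr (hz.2.2 a haP).eq)
        (Subgroup.zpowers_le.mpr (Subgroup.mem_centralizer_singleton_iff.mpr rfl))
    exact Subgroup.mem_centralizer_iff.mpr fun x hx => Subgroup.mem_centralizer_singleton_iff.mp (this hx)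
  obtain ⟨A, ⟨hS0A, hAU, hAab⟩, hAmax⟩ := Set.Finite.exists_maximal
    (s := {A : Subgroup H | S0 ≤ A ∧ A ≤ U ∧ A ≤ Subgroup.centralizer (A : Set H)}) (Set.toFinite _)
    ⟨S0, le_rfl, sup_le hZU (Subgroup.zpowers_le.mpr haU), hS0⟩
  have haA : a ∈ A := hS0A (Subgroup.mem_sup_right (Subgroup.mem_zpowers a))
  have hZA : Z ≤ A := le_sup_left.trans hS0A
  have hAcomm : ∀ x ∈ A, ∀ y ∈ A, x * y = y * x := fun x hx y hy =>
    Subgroup.mem_centralizer_iff.mp (hAab hy) x hx
  have hCA : ∀ x ∈ U, (∀ y ∈ A, x * y = y * x) → x ∈ A := by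
    intro x hx hxA
    have hx' : A ⊔ Subgroup.zpowers x ≤ Subgroup.centralizer ((A ⊔ Subgroup.zpowers x : Subgroup H) : Set H) := by
      refine sup_le ?_ (Subgroup.zpowers_le.mpr ?_)
      · rw [Subgroup.le_centralizer_iff]
        exact sup_le hAab (Subgroup.zpowers_le.mpr (Subgroup.mem_centralizer_iff.mpr fun y hy => (hxA y hy).symm))
      · have : A ⊔ Subgroup.zpowers x ≤ Subgroup.centralizer ({x} : Set H) :=
          sup_le (fun y hy => Subgroup.mem_centralizer_singleton_iff.mpr (hxA y hy).symm)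
            (Subgroup.zpowers_le.mpr (Subgroup.mem_centralizer_singleton_iff.mpr rfl))
        exact Subgroup.mem_centralizer_iff.mpr fun y hy => Subgroup.mem_centralizer_singleton_iff.mp (this hy)
    exact hAmax ⟨hS0A.trans le_sup_left, sup_le hAU (Subgroup.zpowers_le.mpr hx), hx'⟩ le_sup_left
      (Subgroup.mem_sup_right (Subgroup.mem_zpowers x))
  have hUA : ∀ y ∈ U, ∀ x, y * x * y⁻¹ ∈ A ↔ x ∈ A := by
    have key : ∀ y ∈ U, ∀ x ∈ A, y * x * y⁻¹ ∈ A := fun y hy x hx => by
      rw [show y * x * y⁻¹ = ⁅y, x⁆ * x by simp only [commutatorElement_def]; group]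
      exact mul_mem (hZA (hy.2.2 x (hUP (hAU hx)))) hx
    refine fun y hy x => ⟨fun h => ?_, key y hy x⟩
    have := key y⁻¹ (inv_mem hy) _ h
    rwa [show y⁻¹ * (y * x * y⁻¹) * y⁻¹⁻¹ = x by group] at this
  obtain ⟨K₀, hK₀⟩ := exists_isWeight ρ A
  obtain ⟨w₀, hw₀, hw₀0⟩ := hK₀.2.1
  have hKZ : ∀ {K}, IsWeight ρ A K → ∀ z ∈ Z, z ∈ K → z = 1 := by
    intro K hK z hz hzK
    by_contra h
    obtain ⟨u, hu, hu0⟩ := hK.2.1
    exact hu0 (hfpf z hz h u (hu z hzK))
  obtain ⟨z, hz, hz1⟩ : ∃ z ∈ Z, z ≠ 1 := CfsgLib.BlocksCharsC.exists_mem_ne_one fun h => by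
    rw [h, Subgroup.card_bot] at hZcard
    exact hp.out.one_lt.ne hZcard
  have hAKZ : A ≤ K₀ ⊔ Z := by
    intro x hx
    by_contra hxn
    have hxz : x ∉ Subgroup.zpowers z := fun h =>
      hxn (Subgroup.mem_sup_right (Subgroup.zpowers_le.mpr hz h))
    refine false_of_fpf_pair ρ hpF hw₀ hw₀0 (hAcomm x hx z (hZA hz))
      (fun k hk => hAcomm x hx k (hK₀.1 hk)) (fun k hk => hAcomm z (hZA hz) k (hK₀.1 hk))
      (hAU hx).2.1 hz.2.1 hz1 hxz fun e he he1 u hu heu => ?_
    by_contra hu0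
    have heA : e ∈ A := by
      refine (Subgroup.closure_le _).mpr ?_ he
      rintro _ (rfl | rfl)
      exacts [hx, hZA hz]
    have heK : e ∈ K₀ := hK₀.2.2 u hu hu0 e heA heu
    rw [Set.insert_eq, Subgroup.closure_union, ← Subgroup.zpowers_eq_closure] at he
    have hzn : (Subgroup.zpowers z).Normal := by rw [hZgen z hz hz1]; exact hZn
    rw [← Subgroup.zpowers_eq_closure] at he
    obtain ⟨s, hs, t, ht, rfl⟩ := Subgroup.mem_sup_of_normal_right.mp he
    obtain ⟨i, rfl⟩ := Subgroup.mem_zpowers_iff.mp hs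
    have htZ : t ∈ Z := Subgroup.zpowers_le.mpr hz ht
    by_cases hxi : x ^ i = 1
    · rw [hxi, one_mul] at heK he1
      exact he1 (hKZ hK₀ t htZ heK)
    have hmem : x ^ i ∈ K₀ ⊔ Z := by
      rw [show x ^ i = x ^ i * t * t⁻¹ by group]
      exact mul_mem (Subgroup.mem_sup_left heK) (inv_mem (Subgroup.mem_sup_right htZ))
    have hgen : Subgroup.zpowers (x ^ i) = Subgroup.zpowers x := by
      refine Subgroup.eq_of_le_of_card_ge (Subgroup.zpowers_le.mpr (Subgroup.zpow_mem_zpowers x i)) ?_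
      have hx1 : x ≠ 1 := fun h => hxi (by rw [h, one_zpow])
      rw [Nat.card_zpowers, Nat.card_zpowers, orderOf_eq_prime (hAU hx).2.1 hx1,
        orderOf_eq_prime (by rw [← zpow_natCast, ← zpow_mul, mul_comm, zpow_mul, zpow_natCast,
          (hAU hx).2.1, one_zpow]) hxi]
    exact hxn (Subgroup.zpowers_le.mpr hmem (hgen ▸ Subgroup.mem_zpowers x : x ∈ Subgroup.zpowers (x ^ i)))
  let _ : MulAction U (Subgroup H) := MulAction.compHom _ ((MulAut.conj).comp U.subtype)
  set O := MulAction.orbit U K₀ with hO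
  have hOw : ∀ K ∈ O, IsWeight ρ A K := by
    rintro _ ⟨y, rfl⟩
    exact hK₀.conj (y : H) (hUA y y.2)
  have hO3 : 3 ≤ Nat.card O := by
    obtain ⟨k, hk⟩ := (hP.to_le hUP).card_orbit K₀
    rw [← hO] at hk
    rw [hk]
    have hK1 : K₀ ≠ ⊥ := by
      intro h
      refine haZ ?_
      have := hAKZ haA
      rwa [h, bot_sup_eq] at this
    obtain ⟨x, hxK, hx1⟩ := CfsgLib.BlocksCharsC.exists_mem_ne_one hK1
    have hxU := hAU (hK₀.1 hxK)
    obtain ⟨y, hy, hyx⟩ : ∃ y ∈ U, ⁅y, x⁆ ≠ 1 := by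
      by_contra! hall
      refine hx1 (hKZ hK₀ x (hDU x ⟨hxU.1, Subgroup.mem_centralizer_iff.mpr fun u hu => ?_⟩ hxU) hxK)
      exact commutatorElement_eq_one_iff_mul_comm.mp (hall u hu)
    rcases k with _ | k
    · exfalso
      rw [pow_zero, Nat.card_eq_one_iff_unique] at hk
      have := hk.1
      have h1 : MulAut.conj y • K₀ = K₀ := congrArg Subtype.val (Subsingleton.elim
        (⟨MulAut.conj y • K₀, ⟨⟨y, hy⟩, rfl⟩⟩ : O) ⟨K₀, MulAction.mem_orbit_self K₀⟩)
      have h2 : y * x * y⁻¹ ∈ K₀ := h1 ▸ (⟨x, hxK, rfl⟩ : y * x * y⁻¹ ∈ MulAut.conj y • K₀)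
      refine hyx (hKZ hK₀ _ (hy.2.2 x hxU.1) ?_)
      rw [show ⁅y, x⁆ = y * x * y⁻¹ * x⁻¹ from commutatorElement_def y x]
      exact mul_mem h2 (inv_mem hxK)
    · have h3 : 3 ≤ p := by have := hp.out.two_le; omega
      exact h3.trans (Nat.le_self_pow (Nat.succ_ne_zero k) p)
  set S : Finset (Subgroup H) := O.toFinite.toFinset.erase K₀ with hS
  have hSmem : ∀ K, K ∈ S ↔ K ≠ K₀ ∧ K ∈ O := fun K => by simp [hS]
  have hrep : ∀ K, ∃ y : H, K ∈ O → y ∈ U ∧ MulAut.conj y • K₀ = K := by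
    intro K
    by_cases h : K ∈ O
    · obtain ⟨y, rfl⟩ := h
      exact ⟨y, fun _ => ⟨y.2, rfl⟩⟩
    · exact ⟨1, fun h' => absurd h' h⟩
  choose r hr using hrep
  let w : Subgroup H → V := fun K => ρ (r K) w₀
  have hw : ∀ K ∈ S, w K ∈ fixSp ρ K ∧ w K ≠ 0 := by
    intro K hK
    obtain ⟨-, h2⟩ := hr K ((hSmem K).mp hK).2
    refine ⟨?_, fun h => hw₀0 (by rw [← rep_inv_cancel ρ (r K) w₀, show ρ (r K) w₀ = 0 from h, map_zero])⟩
    have := map_fixSp_le ρ (r K) hw₀
    rwa [h2] at this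
  refine ⟨∑ K ∈ S, w K, fun h hfix => ?_⟩
  set b := h * a * h⁻¹ with hb
  have hbU : b ∈ U := hUn.conj_mem a haU h
  have hbZ : b ∉ Z := fun hh => haZ (by
    have := hZn.conj_mem b hh h⁻¹
    rwa [hb, show h⁻¹ * (h * a * h⁻¹) * h⁻¹⁻¹ = a by group] at this)
  have hperm := perm_of_fixed ρ hp.out hpF ((hP.to_le hUP).to_le hAU) hAcomm S w
    (fun K hK => hOw K ((hSmem K).mp hK).2) hw (hUA b hbU) hfix
  have hOb : MulAut.conj b • K₀ ∈ O := ⟨⟨b, hbU⟩, rfl⟩
  have hK₀fix : MulAut.conj b • K₀ = K₀ := by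
    by_contra hne
    have himg : S.image (fun K => MulAut.conj b • K) = S := by
      refine Finset.eq_of_subset_of_card_le ?_ ?_
      · intro K hK
        obtain ⟨L, hL, rfl⟩ := Finset.mem_image.mp hK
        exact (hperm L hL).1
      · rw [Finset.card_image_of_injective _ fun K L hKL => smul_left_cancel _ hKL]
    have h1 : MulAut.conj b • K₀ ∈ S.image (fun K => MulAut.conj b • K) := by
      rw [himg]; exact (hSmem _).mpr ⟨hne, hOb⟩
    obtain ⟨L, hL, hLe⟩ := Finset.mem_image.mp h1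
    exact ((hSmem L).mp hL).1 (smul_left_cancel _ hLe)
  have hbA : b ∈ A := by
    refine hCA b hbU fun y hy => ?_
    have hle : K₀ ⊔ Z ≤ Subgroup.centralizer ({b} : Set H) := by
      refine sup_le (fun k hk => ?_) fun t ht => Subgroup.mem_centralizer_singleton_iff.mpr (ht.2.2 b hbU.1).eq
      rw [Subgroup.mem_centralizer_singleton_iff]
      have h2 : b * k * b⁻¹ ∈ K₀ := hK₀fix ▸ (⟨k, hk, rfl⟩ : b * k * b⁻¹ ∈ MulAut.conj b • K₀)
      have h3 := hKZ hK₀ ⁅b, k⁆ (hbU.2.2 k (hUP (hAU (hK₀.1 hk)))) (by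
        rw [commutatorElement_def]; exact mul_mem h2 (inv_mem hk))
      exact (commutatorElement_eq_one_iff_mul_comm.mp h3).symm
    exact (Subgroup.mem_centralizer_singleton_iff.mp (hle (hAKZ hy))).symm
  have hbK : ∀ K ∈ S, b ∈ K := by
    intro K hK
    have hKO := hOw K ((hSmem K).mp hK).2
    have hcK : MulAut.conj b • K = K := by
      ext x
      rw [Subgroup.mem_pointwise_smul_iff_inv_smul_mem]
      rw [← map_inv, MulAut.smul_def, MulAut.conj_apply, inv_inv]
      constructor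
      · intro hx
        have : b⁻¹ * x * b = x := by
          have hc := hAcomm _ (hKO.1 hx) b hbA
          calc b⁻¹ * x * b = b⁻¹ * x * b * (b * b⁻¹) := by group
            _ = (b⁻¹ * x * b * b) * b⁻¹ := by group
            _ = (b * (b⁻¹ * x * b)) * b⁻¹ := by rw [hc]
            _ = x := by group
        rwa [this] at hx
      · intro hx
        rwa [mul_assoc, hAcomm x (hKO.1 hx) b hbA, inv_mul_cancel_left]
    have h2 := (hperm K hK).2
    rw [hcK] at h2
    exact hKO.2.2 _ (hw K hK).1 (hw K hK).2 b hbA h2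
  obtain ⟨y, hy, hyb⟩ : ∃ y ∈ U, ⁅y, b⁆ ≠ 1 := by
    by_contra! hall
    refine hbZ (hDU b ⟨hbU.1, Subgroup.mem_centralizer_iff.mpr fun u hu => ?_⟩ hbU)
    exact commutatorElement_eq_one_iff_mul_comm.mp (hall u hu)
  obtain ⟨K, hKS, hKy⟩ : ∃ K ∈ S, K ≠ MulAut.conj y • K₀ := by
    refine Finset.exists_mem_ne ?_ _
    rw [hS, Finset.card_erase_of_mem (by simp [hO]), ← Set.ncard_eq_toFinset_card _ (Set.toFinite _),
      ← Nat.card_coe_set_eq]
    omega
  have hKO := ((hSmem K).mp hKS).2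
  have hK' : (MulAut.conj y)⁻¹ • K ∈ S := by
    refine (hSmem _).mpr ⟨fun e => hKy ?_, ?_⟩
    · rw [← e, smul_inv_smul]
    · have := MulAction.mem_orbit_of_mem_orbit (⟨y, hy⟩ : U)⁻¹ hKO
      change (MulAut.conj ((⟨y, hy⟩ : U)⁻¹ : U).1) • K ∈ O at this
      rwa [Subgroup.coe_inv, map_inv] at this
  have h1 : y * b * y⁻¹ ∈ K := by
    have := Subgroup.smul_mem_pointwise_smul b (MulAut.conj y) _ (hbK _ hK')
    rwa [smul_inv_smul] at this
  refine hyb (hKZ (hOw K hKO) _ (hy.2.2 b hbU.1) ?_)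
  rw [commutatorElement_def]
  exact mul_mem h1 (inv_mem (hbK K hKS))

end CfsgLib.ClassSubnormal
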